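import Cfsg.Agent.Mult.Fo6

/-! The uniqueness part of the Borel–Tits theorem (`bt`), unipotent elements in characteristic `p`. -/

set_option autoImplicit false

namespace Cfsg.Agent.SubF

open Cfsg.Lie Cfsg.Agent.Chev Cfsg.Agent.Chev.Sys Cfsg.Agent.ChAut Cfsg.Agent.Mult Finset
open scoped _root_.Classical

attribute [-simp] zsmul_eq_mul

variable {D : ChevalleyDatum} [Good D] {S : Sym D} [Conn D] {F : Type*} [Field F] {G : Type*} [Group G]
  {X : Sys D F G} {Γ : Subgroup G}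

/-- The Borel–Tits theorem with uniqueness. -/
theorem bt (h : X.Fold S Γ) (c : X.Cover) {V : Subgroup G} (hV : V ≤ X.UP) (h0 : V ≠ ⊥) :
    ∃ z ∈ Γ, ∃ J : Set (Sm D), Jᶜ.Nonempty ∧ (∀ i, S.π i ∈ J ↔ i ∈ J) ∧ ∃ T, (∀ y ∈ V, z * y * z⁻¹ ∈ X.U T) ∧
      ∀ z' ∈ Γ, (∀ y ∈ V, z' * y * z'⁻¹ ∈ X.U T) → z' * z⁻¹ ∈ X.P J := by
  let C : Set (EuclideanSpace ℝ (Rt D)) := ⋃ T ∈ {T | ∃ z ∈ Γ, ∀ y ∈ V, z * y * z⁻¹ ∈ X.U T},
    {f | SEv S f ∧ ∀ r ∈ T, 1 ≤ f r}
  have hC : ∀ f, f ∈ C ↔ SEv S f ∧ ∃ z ∈ Γ, ∀ y ∈ V, z * y * z⁻¹ ∈ X.U {r | 1 ≤ f r} := fun f => by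
    simp only [C, Set.mem_iUnion]
    exact ⟨fun ⟨S, ⟨z, a1, a2⟩, a3, a4⟩ => ⟨a3, z, a1, fun y hy => X.U_mono a4 (a2 y hy)⟩,
      fun ⟨a1, a2⟩ => ⟨_, a2, a1, fun _ h => h⟩⟩
  have h1 : IsClosed C := (Set.toFinite _).isClosed_biUnion fun S _ => by
    simp only [SEv, Set.ofPred_and, Set.ofPred_forall]
    exact ((isClosed_iInter fun r => isClosed_eq (by fun_prop) (by fun_prop)).inter
      (isClosed_iInter fun r => isClosed_eq (by fun_prop) (by fun_prop))).inter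
      (isClosed_iInter fun r => isClosed_iInter fun _ => isClosed_le (by fun_prop) (by fun_prop))
  let mv (w : WG D) (f : EuclideanSpace ℝ (Rt D)) : EuclideanSpace ℝ (Rt D) := .toLp _ fun r => f (w • r)
  have h2 : ∀ w f, ‖mv w f‖ = ‖f‖ := fun w f => by
    simp only [EuclideanSpace.norm_eq]
    exact congrArg _ (Equiv.sum_comp (MulAction.toPerm w) fun r => ‖f r‖ ^ 2)
  obtain ⟨f, hf, h4⟩ := h1.exists_infDist_eq_dist ⟨.toLp _ (evF ∅), (hC _).mpr ⟨ev_evF (by simp), 1,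
    one_mem _, fun y hy => by
      simpa using X.U_mono (fun r hr => by
        have : (1 : ℝ) ≤ ht r := by exact_mod_cast pos_iff_ht.mp hr
        refine this.trans ?_
        rw [ht, evF, Int.cast_sum]
        exact sum_le_sum fun i _ => le_mul_of_one_le_right (by exact_mod_cast hr i) (by
          simpa [sqL] using (show (1 : ℝ) ≤ ln (sm i) by exact_mod_cast ln_pos _))) (hV hy)⟩⟩ 0
  have h5 : ∀ f' ∈ C, ‖f‖ ≤ ‖f'‖ := fun f' h => by simpa [h4] using Metric.infDist_le_dist_of_mem (x := 0) h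
  obtain ⟨a1, z, a2, a3⟩ := (hC f).mp hf
  obtain ⟨w, hw1, hw⟩ := a1.exists_dom
  obtain ⟨n, -, a5, a4⟩ := h.exists_N (inv_mem hw1)
  replace a3 : ∀ y ∈ V, n * z * y * (n * z)⁻¹ ∈ X.U {r | 1 ≤ mv w f r} := fun y hy => by
    simpa [mul_assoc] using a5.conj_mem_U (T := {r | 1 ≤ mv w f r}) (fun r hr => by simpa [mv] using hr) (a3 y hy)
  replace a2 := mul_mem a4 a2
  replace a1 : SEv S (mv w f) := a1.smul hw1
  rw [← h2 w] at h5
  replace hw : ∀ i, 0 ≤ mv w f (sm i) := hw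
  generalize n * z = z at a2 a3
  generalize mv w f = f at a1 a3 h5 hw
  have b1 : ∀ r k : Rt D, (∀ i, rtv r i ≤ rtv k i) → f r ≤ f k := fun r k h => by
    rw [a1.1, a1.1 k]
    exact Finset.sum_le_sum fun i _ => mul_le_mul_of_nonneg_right (Int.cast_le.mpr (h i)) (hw i)
  have b2 := a1.ng
  have b3 : ∀ r, Pos r → 0 ≤ f r := fun r hr => by
    have := b1 (ng r) r fun i => by have := hr i; simp; omega
    linarith [b2 r]
  have b4 : ∀ r, 1 ≤ f r → Pos r ∧ ¬ InJ {i | f (sm i) = 0} r := fun r hr =>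
    ⟨by_contra fun e => by linarith [b3 _ (pos_ng_iff.mpr e), b2 r], fun e => by
      rw [a1.1, Finset.sum_eq_zero fun i _ => by
        by_cases h : f (sm i) = 0 <;> simp [h, e i]] at hr
      linarith⟩
  have b5 : X.Stab {r | 1 ≤ f r} := stab_of_upper (fun r hr => (b4 r hr).1) fun r hr k h => hr.trans (b1 r k h)
  refine ⟨z, a2, {i | f (sm i) = 0}, by_contra fun e => h0 (eq_bot_iff.mpr fun y hy => ?_), fun i => ?_, _, a3,
    fun y hy hy' => ?_⟩
  · have := X.U_mono (T := ∅) (fun r hr => (b4 r hr).2 fun i hi => (e ⟨i, hi⟩).elim) (a3 y hy)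
    simpa [mul_inv_eq_iff_eq_mul] using this
  · rw [Set.mem_ofPred_eq, Set.mem_ofPred_eq, ← mul_eq_zero_iff_right (sqL_pos (sm i)).ne', ← S.ρ_sm, a1.2,
      mul_eq_zero_iff_right (sqL_pos _).ne']
  obtain ⟨w, hw1, b, n, b', hb, -, hn, hn', hw, -, hb', hb2, e⟩ := canon h c (mul_mem hy (inv_mem a2))
  refine (c.mem_P_iff ⟨b, X.UP_le_B hb, n, hn, hw, b', X.UP_le_B hb', e⟩).mpr
    (inv_mem_iff.mp (mem_WJ_of_Inv fun r hr => ?_))
  have a6 := a1.smul (inv_mem hw1)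
  have b6 := h5 ((2 : ℝ)⁻¹ • (f + mv w⁻¹ f)) ((hC _).mpr ⟨⟨fun r => by
      simp only [mv, PiLp.smul_apply, PiLp.add_apply, smul_eq_mul, a1.1 r, a6.1 r, ← Finset.sum_add_distrib,
        Finset.mul_sum]
      exact Finset.sum_congr rfl fun _ _ => by ring, fun r => by
      simp only [mv, PiLp.smul_apply, PiLp.add_apply, smul_eq_mul]
      linear_combination 2⁻¹ * a1.2 r + 2⁻¹ * a6.2 r⟩,
    n * b' * z, mul_mem (mul_mem hn' hb2) a2, fun v hv => by
      simpa [mul_assoc] using X.U_mono (T := {r | 1 ≤ ((2 : ℝ)⁻¹ • (f + mv w⁻¹ f)) r}) (fun r hr => by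
        have := hr.1; have := hr.2
        simp only [mv, Set.mem_ofPred_eq, PiLp.smul_apply, PiLp.add_apply, smul_eq_mul] at *
        linarith) (c.conj_mem_inter (X.UP_le_B hb) hw (X.UP_le_B hb') b5 (a3 v hv) (by
          simpa [← e, mul_assoc] using hy' v hv))⟩)
  have b7 : f = mv w⁻¹ f := eq_of_norm_eq_of_norm_add_eq (h2 _ _).symm (le_antisymm (norm_add_le _ _) (by
    rw [norm_smul, h2] at *
    norm_num at b6
    linarith))
  obtain ⟨b8, b9⟩ := mem_Inv.mp hr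
  have b10 : f r = 0 := le_antisymm (by
    have := b3 _ (pos_ng_iff.mpr b9)
    have := congrArg (· r) b7
    simp only [mv] at this
    linarith [b2 (w⁻¹ • r)]) (b3 r b8)
  rw [a1.1, Finset.sum_eq_zero_iff_of_nonneg fun i _ => mul_nonneg (Int.cast_nonneg (b8 i)) (b3 _ (pos_sm i))] at b10
  exact fun i hi => by simpa [show f (sm i) ≠ 0 from hi] using b10 i (Finset.mem_univ i)

section CharP

variable (c : X.Cover) (p : ℕ) [Fact p.Prime] [CharP F p]
include c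

omit [Conn D] in
theorem isPGroup_U {φ : Fn D} {T : Set (Rt D)} (h : Nilp φ T) : IsPGroup p (X.U T) := fun y => by
  have : Nonempty D.Idx := ⟨.inr ⟨0, nroots_pos⟩⟩
  obtain ⟨k, hk⟩ := (adS_up zero_le_one h.pos (c.π_mem_U y.2)).isNilpotent
  refine ⟨k, Subtype.ext (c.eq_one_of_π h (pow_mem y.2 _) (Units.ext ?_))⟩
  have := add_pow_char_pow_of_commute p k (Commute.one_left ((c.π y : Matrix D.Idx D.Idx F) - 1))
  rw [add_sub_cancel, one_pow, pow_eq_zero_of_le (Nat.lt_pow_self (Fact.out : p.Prime).one_lt).le hk, add_zero] at this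
  simpa using this

theorem mem_UP_of_pow (m : X.Mult) (hπ : Function.Injective c.π) {y : G} (hy : y ∈ X.B) {k : ℕ}
    (hk : y ^ p ^ k = 1) : y ∈ X.UP := by
  obtain ⟨u, hu, z, hz, rfl⟩ := mem_B_iff.mp hy
  have h1 : ∀ n : ℕ, (u * z) ^ n * (z ^ n)⁻¹ ∈ X.UP := fun n => by
    induction n with
    | zero => simp
    | succ n ih =>
      have := mul_mem hu (conj_mem_of_norm (X.H_le_normalizer_U _ hz) ih)
      convert this using 1
      rw [pow_succ', pow_succ']; group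
  have h2 := c.eq_one_of_UP_H (by simpa [hk] using h1 (p ^ k)) (pow_mem hz (p ^ k))
  obtain ⟨a, rfl⟩ := m.exists_tor hz
  have h3 := (m.π_tor_eq_one c).1 (by rw [map_pow, h2, map_one] : c.π (m.tor (a ^ p ^ k)) = 1)
  have h4 : c.π (m.tor a) = c.π 1 := by
    rw [map_one, m.π_tor_eq_one c]
    intro j
    have e : (chi a (sm j) : F) ^ p ^ k = 1 := by
      rw [← Units.val_pow_eq_pow_val, ← Units.val_one, ← h3 j, chi, chi, ← Finset.prod_pow]
      exact congrArg _ (Finset.prod_congr rfl fun i _ => by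
        rw [Pi.pow_apply, ← zpow_natCast, ← zpow_natCast, ← zpow_mul, ← zpow_mul, mul_comm])
    refine Units.ext (sub_eq_zero.1 (pow_eq_zero_iff (pow_ne_zero k (Fact.out : p.Prime).ne_zero) |>.1 ?_))
    rw [sub_pow_char_pow, e, Units.val_one, one_pow, sub_self]
  simpa [hπ h4] using hu

theorem exists_conj_UP (m : X.Mult) (hπ : Function.Injective c.π) [Finite Γ] (h : X.Fold S Γ) {P : Subgroup G}
    (hP : P ≤ Γ) (hp : IsPGroup p P) : ∃ z ∈ Γ, ∀ y ∈ P, z * y * z⁻¹ ∈ X.UP := by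
  have hU : IsPGroup p (X.UP.subgroupOf Γ) := (isPGroup_U c p nilp_Pos).comap_of_injective _ Γ.subtype_injective
  obtain ⟨Q, hQ⟩ := hU.exists_le_sylow
  have h1 : (Q : Subgroup Γ) = X.UP.subgroupOf Γ := by
    by_contra e
    have h2 : (X.UP.subgroupOf Γ).subgroupOf Q < ⊤ := lt_top_iff_ne_top.mpr fun e' =>
      e (le_antisymm (Subgroup.subgroupOf_eq_top.mp e') hQ)
    have := Q.isPGroup'.isNilpotent
    obtain ⟨y, hy, hy'⟩ := SetLike.exists_of_lt (Group.normalizerCondition_of_isNilpotent _ h2)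
    obtain ⟨k, hk⟩ := Q.isPGroup' y
    refine hy' (mem_UP_of_pow c p m hπ ((mem_B_iff_norm h c (y : Γ).2).2 fun u hu hu' => ?_) (k := k) ?_)
    · exact (Subgroup.mem_normalizer_iff.mp hy ⟨⟨u, hu'⟩, hQ hu⟩).mp hu
    · rw [← map_pow, ← map_pow, hk, map_one, map_one]
  obtain ⟨R, hR⟩ := (hp.comap_of_injective _ Γ.subtype_injective).exists_le_sylow
  obtain ⟨z, rfl⟩ := MulAction.exists_smul_eq Γ R Q
  exact ⟨z, z.2, fun y hy => h1.le (Subgroup.smul_mem_pointwise_smul (⟨y, hP hy⟩ : Γ) (MulAut.conj z) _ (hR hy))⟩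

end CharP

end Cfsg.Agent.SubF
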