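import Cfsg.Agent.SubF.Core

/-! Coefficients of unipotent elements in the height filtration (`Co`, `KA`), pushing coefficients upwards (`push`,
`rat_all`) and stripping them off (`strip`). -/

set_option autoImplicit false

namespace Cfsg.Agent.SubF

open Cfsg.Lie Cfsg.Agent.Chev Cfsg.Agent.Chev.Sys

attribute [-simp] zsmul_eq_mul

variable {D : ChevalleyDatum} [Good D] {S : Sym D} {F : Type*} [Field F] {G : Type*} [Group G]
  {X : Sys D F G} {Γ M : Subgroup G}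

/-- The roots of height at least `m`. -/
def Lv (m : ℤ) : Set (Rt D) := {k | Pos k ∧ m ≤ ht k}

instance instDecidableLv (m : ℤ) : DecidablePred (· ∈ (Lv m : Set (Rt D))) := fun _ => instDecidableAnd

theorem Lv_up {m : ℤ} : ∀ r ∈ (Lv m : Set (Rt D)), ∀ k, (∀ i, rtv r i ≤ rtv k i) → k ∈ Lv m :=
  fun _ hr _ h => ⟨fun j => (hr.1 j).trans (h j), hr.2.trans (Finset.sum_le_sum fun i _ => h i)⟩

theorem Lv_eq (m : ℤ) : lvl (htF D) {r | Pos r} m = Lv m := by simp [lvl, Lv, htF_rtv]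

theorem stab_Lv (m : ℤ) : X.Stab (Lv m) := stab_of_upper (fun _ h => h.1) Lv_up

theorem stab_N (r : Rt D) : X.Stab (Lv (ht r) \ {r}) := stab_diff (fun _ h => h.1) Lv_up fun _ h => h.2

theorem comb_ht {a b k : Rt D} (h : Comb a b k) (ha : Pos a) (hb : Pos b) :
    ht a + ht b ≤ ht k ∧ (ht k ≤ ht a + ht b → rtv k = rtv a + rtv b) := by
  obtain ⟨i, j, hi, hj, e⟩ := h
  have := congrArg (htF D) e
  simp only [map_add, map_smul, htF_rtv, smul_eq_mul] at this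
  have a1 := mul_nonneg (sub_nonneg.2 hi) ha.ht_pos.le
  have a2 := mul_nonneg (sub_nonneg.2 hj) hb.ht_pos.le
  refine ⟨by linarith, fun h => ?_⟩
  obtain rfl : i = 1 := by nlinarith [ha.ht_pos]
  obtain rfl : j = 1 := by nlinarith [hb.ht_pos]
  simpa using e

variable (X) in
/-- The coefficient of `u` at the root `r` is `t`. -/
def Co (r : Rt D) (u : G) (t : F) : Prop := (X.x r t)⁻¹ * u ∈ X.U (Lv (ht r) \ {r})

theorem co_zero {r : Rt D} {u : G} : Co X r u 0 ↔ u ∈ X.U (Lv (ht r) \ {r}) := by simp [Co]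

theorem co_x (r : Rt D) (t : F) : Co X r (X.x r t) t := by simp [Co]

section

variable {r : Rt D} (hr : Pos r) {u u' : G} {t t' : F}
include hr

theorem Co.mem (h : Co X r u t) : u ∈ X.U (Lv (ht r)) := by
  simpa using mul_mem (X.x_mem_U (show r ∈ Lv _ from ⟨hr, le_rfl⟩) t) (X.U_mono Set.sdiff_subset h)

omit hr in
theorem exists_co (h : u ∈ X.U (Lv (ht r))) : ∃ t, Co X r u t := by
  obtain ⟨a, ha, b, hb, rfl⟩ := exists_mul (stab_Lv (X := X) _).nilp {r} h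
  obtain ⟨t, rfl⟩ := mem_U_singleton.1 (X.U_mono Set.inter_subset_right ha)
  exact ⟨t, by simpa [Co]⟩

theorem Co.mul (h : Co X r u t) (h' : Co X r u' t') : Co X r (u * u') (t + t') := by
  convert mul_mem (conj_mem_of_norm' ((stab_N r).norm (X.x_mem_U hr t')) h) h' using 1
  rw [Co, X.add]; group

theorem Co.inv (h : Co X r u t) : Co X r u⁻¹ (-t) := by
  convert inv_mem (conj_mem_of_norm ((stab_N r).norm (X.x_mem_U hr t)) h) using 1
  rw [Co, x_neg]; group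

theorem Co.unique (c : X.Cover) (h : Co X r u t) (h' : Co X r u t') : t = t' := by
  have := (h.inv hr).mul hr h'
  rw [Co, inv_mul_cancel, ← x_neg] at this
  by_contra e
  exact c.x_mul_not_mem (stab_N (X := X) r).nilp subset_rfl hr (by simp) (fun h => e (by linear_combination h))
    (one_mem _) this

theorem Co.conj (h : Co X r u t) {b : G} (hb : b ∈ X.UP) : Co X r (b⁻¹ * u * b) t := by
  have h1 := comm_mem_lvl nilp_Pos hb (X.x_mem_U (show r ∈ lvl _ _ (ht r) from ⟨hr, (htF_rtv r).ge⟩) (-t))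
  replace h1 := X.U_mono (T := Lv (ht r) \ {r}) (fun k hk => by
    have := hk.2
    rw [htF_rtv] at this
    exact ⟨⟨hk.1, by omega⟩, by rintro rfl; omega⟩) h1
  convert mul_mem (conj_mem_of_norm' ((stab_N r).norm (X.x_mem_U hr t)) h1) (conj_mem_of_norm'
    ((stab_N r).norm hb) h) using 1
  rw [Co, x_neg]; group

variable (X) in
/-- The elements whose coefficient at `r` lies in `A`. -/
def KA (A : AddSubgroup F) : Subgroup G where
  carrier := {y | ∃ t ∈ A, Co X r y t}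
  one_mem' := ⟨0, zero_mem _, co_zero.2 (one_mem _)⟩
  mul_mem' := fun ⟨_, a, b⟩ ⟨_, c, d⟩ => ⟨_, add_mem a c, b.mul hr d⟩
  inv_mem' := fun ⟨_, a, b⟩ => ⟨_, neg_mem a, b.inv hr⟩

theorem N_le_KA {A : AddSubgroup F} (h : u ∈ X.U (Lv (ht r) \ {r})) : u ∈ KA X hr A := ⟨0, zero_mem _, co_zero.2 h⟩

theorem comm_N {T T' : Set (Rt D)} {m k : ℤ} (h1 : T ⊆ Lv m) (h2 : T' ⊆ Lv k) (e : ht r = m + k)
    (h : ∀ a ∈ T, ∀ b ∈ T', rtv r ≠ rtv b + rtv a) {y z : G} (hy : y ∈ X.U T) (hz : z ∈ X.U T') :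
    y⁻¹ * z⁻¹ * y * z ∈ X.U (Lv (ht r) \ {r}) := by
  have hn := (stab_N (X := X) r).norm
  refine U_induction (P := fun z => y⁻¹ * z⁻¹ * y * z ∈ _) (by simp) ?_ hz
  intro s hs c z _ ih
  have h1 : y⁻¹ * (X.x s c)⁻¹ * y * X.x s c ∈ X.U (Lv (ht r) \ {r}) := by
    refine U_induction (P := fun y => y⁻¹ * (X.x s c)⁻¹ * y * X.x s c ∈ _) (by simp) ?_ hy
    intro a ha t y _ ih
    have h2 := X.U_mono (T := Lv (ht r) \ {r}) (fun j hj => by
      have := comb_ht hj (h2 hs).1 (h1 ha).1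
      have a1 := (h1 ha).2
      have a2 := (h2 hs).2
      exact ⟨⟨hj.pos (h2 hs).1 (h1 ha).1, by omega⟩, by rintro rfl; exact h a ha s hs (this.2 (by omega))⟩)
      (X.comm_mem (nilp_Pos.ne_ng (h2 hs).1 (h1 ha).1) c t)
    convert mul_mem (conj_mem_of_norm' (hn (X.x_mem_U (h1 ha).1 t)) ih) h2 using 1; group
  convert mul_mem h1 (conj_mem_of_norm' (hn (X.x_mem_U (h2 hs).1 c)) ih) using 1; group

end

variable (S) in
/-- The other roots of an orbit. -/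
def orbE (r : Rt D) : Set (Rt D) := {k | k ≠ r ∧ (k = S.ρ r ∨ k = S.ρ (S.ρ r))}

variable (S) in
/-- The coefficient at `γ` can be pushed upwards. -/
def Push (L : List ℤ) (γ : Rt D) : Prop := ∃ β : Rt D, Pos β ∧ N β γ ∈ L ∧
  ∀ k ∈ [S.ρ β, S.ρ (S.ρ β)], k = β ∨ ∀ δ : Rt D, ∃ i, rtv (add β γ) i ≠ rtv k i + rtv δ i

instance instDecidablePush (L : List ℤ) (γ : Rt D) : Decidable (Push S L γ) := by unfold Push; infer_instance

variable (X M) in
/-- The coefficients at `r` of the elements of `M` lie in `A`. -/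
def Rat (A : Subfield F) (r : Rt D) : Prop := ∀ u ∈ M, ∀ t, Co X r u t → t ∈ A

variable (c : X.Cover) (hρ : ∀ r, ht (S.ρ r) = ht r)
include hρ

theorem orbE_sub {r : Rt D} (hr : Pos r) : orbE S r ⊆ Lv (ht r) \ {r} := by
  rintro k ⟨h, rfl | rfl⟩ <;> exact ⟨⟨by simpa, by simp [hρ]⟩, h⟩

theorem Co.σ (α : X.Aut S) {r : Rt D} {u : G} {t : F} (h : Co X r u t) : Co X (S.ρ r) (α.σ u) (α.a r t) := by
  simpa [Co, α.σ_x] using α.σ_mem_U (T' := Lv (ht (S.ρ r)) \ {S.ρ r})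
    (fun k hk => ⟨⟨S.pos_ρ.2 hk.1.1, by simpa [hρ] using hk.1.2⟩, S.ρ.injective.ne hk.2⟩) h

include c

theorem push (hZ : ∀ r, Pos r → ∃ v ∈ X.U (orbE S r), X.x r 1 * v ∈ M) {L : List ℤ} (hL : ∀ e ∈ L, (e : F) ≠ 0)
    {A : Subfield F} {γ : Rt D} (hγ : Pos γ) (h : Push S L γ) (hR : ∀ r, ht γ < ht r → Rat X M A r) {u : G} {t : F}
    (hu : Co X γ u t) (hM : ∀ z ∈ X.UP, z ∈ M → u⁻¹ * z⁻¹ * u * z ∈ M) : t ∈ A := by
  obtain ⟨β, h1, h2, h3⟩ := h
  obtain ⟨v, h4, h5⟩ := hZ β h1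
  have h0 : N β γ ≠ 0 := fun e => hL _ h2 (by simp [e])
  have a1 := rtv_add h0
  have a2 : ht (add β γ) = ht γ + ht β := by simpa [htF_rtv, add_comm] using congrArg (htF D) a1
  have a3 : Pos (add β γ) := pos_iff_ht.2 (by linarith [h1.ht_pos, hγ.ht_pos])
  have a4 := (orbE_sub hρ h1).trans Set.sdiff_subset
  have a5 : ∀ k ∈ orbE S β, ∀ δ, rtv (add β γ) ≠ rtv k + rtv δ := fun k hk δ e => by
    obtain ⟨i, hi⟩ := (h3 k (by simpa using hk.2)).resolve_left hk.1 δ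
    exact hi (congrFun e i)
  have b0 : β ∈ Lv (ht β) := ⟨h1, le_rfl⟩
  have b1 := X.U_mono (fun _ h => h.1) (X.U_mono a4 h4)
  have b2 := mul_mem (X.x_mem_U (Set.mem_insert β (orbE S β)) 1) (X.U_mono (Set.subset_insert _ _) h4)
  have b3 := comm_N a3 Set.sdiff_subset (Set.insert_subset b0 a4) a2 (fun a ha b hb => by
    rcases hb with rfl | hb
    exacts [fun e => ha.2 (rtv_injective (add_left_cancel (e.symm.trans a1))), a5 b hb a]) hu b2
  have b4 := comm_N a3 (T := {γ}) (by rintro _ rfl; exact ⟨hγ, le_rfl⟩) a4 a2 (fun a _ b hb => a5 b hb a)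
    (X.x_mem_single γ t) h4
  have b5 := X.U_mono (fun _ h => h.1.1) hu
  have b6 := mul_mem (X.x_mem_U (S := {r | Pos r}) h1 1) b1
  obtain ⟨s, hs⟩ := exists_co (r := add β γ) (u := u⁻¹ * (X.x β 1 * v)⁻¹ * u * (X.x β 1 * v)) (by
    rw [a2, ← Lv_eq]
    exact comm_lvl nilp_Pos (by rw [Lv_eq]; exact hu.mem hγ) (by
      rw [Lv_eq]; exact X.U_mono (Set.insert_subset b0 a4) b2))
  have b7 := (((co_zero.2 (inv_mem b4)).mul a3 ((hs.mul a3 (co_zero.2 (inv_mem b3))).conj a3 (inv_mem b5))).conj a3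
    (inv_mem b1))
  obtain ⟨s', c1, c2⟩ := X.x_mem_of_comm (K := KA X a3 A.toAddSubgroup) (by rintro rfl; exact h0 (N_self _))
    (nilp_Pos.ne_ng h1 hγ) (mem_commTerms (q := 0) (by decide) (chainRoot_one h0)) 1 t
    ⟨_, by simpa using hR _ (by linarith [h1.ht_pos]) _ (hM _ b6 h5) s hs, by convert b7 using 1; group⟩
    fun k hk e t => N_le_KA a3 (X.x_mem_U (And.intro ⟨hk.pos h1 hγ, by linarith [(comb_ht hk h1 hγ).1]⟩ e) t)
  have := mul_mem (inv_mem (neg_mem (intCast_mem A (N β γ)))) (show s' ∈ A from c1)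
  rwa [← (co_x _ _).unique a3 c c2, show (-(N β γ : F))⁻¹ * (D.chainM β γ (0 + 1) * (-1) ^ (0 + 1) * t ^ 1) = t by
    have := hL _ h2; change _ * ((N β γ : F) * _ * _) = _; field_simp; ring] at this

theorem rat_all (hZ : ∀ r, Pos r → ∃ v ∈ X.U (orbE S r), X.x r 1 * v ∈ M) {L : List ℤ} (hL : ∀ e ∈ L, (e : F) ≠ 0)
    {A : Subfield F} {m : ℤ} (h : ∀ γ ∈ Lv m, Push S L γ ∨ Rat X M A γ) (γ : Rt D) (hγ : γ ∈ Lv m) : Rat X M A γ := by
  obtain ⟨n, hn⟩ := exists_lvl_empty (htF D) {r | Pos r}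
  induction e : (n - ht γ).toNat using Nat.strong_induction_on generalizing γ with
  | _ k ih =>
  refine (h γ hγ).elim (fun h u hu t ht => push c hρ hZ hL hγ.1 h (fun r hr => ?_) ht fun z _ hz =>
    mul_mem (mul_mem (mul_mem (inv_mem hu) (inv_mem hz)) hu) hz) id
  have a1 : Pos r := pos_iff_ht.2 (hγ.1.ht_pos.trans hr)
  have a2 : ¬ (n + 1 : ℤ) ≤ htF D (rtv r) := fun e => Set.notMem_empty r (hn ▸ ⟨a1, e⟩)
  rw [htF_rtv] at a2
  exact ih _ (by omega) r ⟨a1, hγ.2.trans hr.le⟩ rfl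

omit hρ in
theorem mem_diff {T E : Set (Rt D)} (hT : Nilp (htF D) T) {u : G} (hu : u ∈ X.U T)
    (h : ∀ r ∈ E, u ∈ X.U (Lv (ht r) \ {r})) : u ∈ X.U (T \ E) := by
  suffices ∃ T' ⊆ T \ E, Nilp (htF D) T' ∧ u ∈ X.U T' from this.elim fun _ h => X.U_mono h.1 h.2.2
  induction E, E.toFinite using Set.Finite.induction_on with
  | empty => exact ⟨T, by simp, hT, hu⟩
  | @insert r E _ _ ih =>
    obtain ⟨T', a1, a2, a3⟩ := ih fun k hk => h k (.inr hk)
    have a4 := (stab_N (X := X) r).nilp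
    exact ⟨T' ∩ (Lv (ht r) \ {r}), fun k hk => ⟨(a1 hk.1).1, fun e => e.elim hk.2.2 (a1 hk.1).2⟩,
      ⟨fun k hk => a2.pos k hk.1, fun a ha b hb k hk => ⟨a2.closed a ha.1 b hb.1 k hk, a4.closed a ha.2 b hb.2 k hk⟩⟩,
      (c.U_inf_U a2 a4).le ⟨a3, h r (.inl rfl)⟩⟩

/-- Stripping off the coefficients. -/
theorem strip (h3 : ∀ r, S.ρ (S.ρ (S.ρ r)) = r ∨ S.ρ (S.ρ r) = r)
    (h0 : ∀ r, Pos r → ∀ u ∈ M, Co X r u 0 → Co X (S.ρ r) u 0) {K : Subgroup G} {m : ℤ}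
    (hY : ∀ r ∈ Lv m, ∀ u ∈ M, ∀ t, Co X r u t → ∃ y ∈ M ⊓ K, y ∈ X.U (insert r (orbE S r)) ∧ Co X r y t) :
    ∀ u ∈ X.U (Lv m), u ∈ M → u ∈ K := by
  suffices ∀ T ⊆ Lv m, (∀ r, S.ρ r ∈ T ↔ r ∈ T) → (∀ r ∈ T, ∀ k, ht r < ht k → k ∈ T) → ∀ u ∈ X.U T, u ∈ M → u ∈ K from
    this _ subset_rfl (fun r => by simp [Lv, hρ]) fun r hr k h => ⟨pos_iff_ht.2 (hr.1.ht_pos.trans h), hr.2.trans h.le⟩
  intro T
  induction e : T.ncard using Nat.strong_induction_on generalizing T with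
  | _ n ih =>
  intro a1 a2 a3 u hu hM
  rcases T.eq_empty_or_nonempty with rfl | a4
  · rw [U_empty, Subgroup.mem_bot] at hu
    exact hu ▸ one_mem _
  obtain ⟨r, b1, b2⟩ := Set.exists_min_image T ht T.toFinite a4
  have b3 := (a1 b1).1
  obtain ⟨t, ht⟩ := exists_co (r := r) (X.U_mono (fun k hk => And.intro (a1 hk).1 (b2 k hk)) hu)
  obtain ⟨y, c1, c2, c3⟩ := hY r (a1 b1) u hM t ht
  have c4 := mul_mem (inv_mem (mM c1)) hM
  have c5 := (c3.inv b3).mul b3 ht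
  rw [neg_add_cancel] at c5
  have c6 := h0 r b3 _ c4 c5
  have c7 : ∀ k, k ∈ insert r (orbE S r) ↔ k = r ∨ k = S.ρ r ∨ k = S.ρ (S.ρ r) := fun k => by
    simp only [orbE, Set.mem_insert_iff, Set.mem_ofPred_eq]; tauto
  have c8 := mem_diff c (E := insert r (orbE S r)) (T := T) ⟨fun k hk => nilp_Pos.pos k (a1 hk).1,
    fun a ha b hb k hk => a3 a ha k (by linarith [(comb_ht hk (a1 ha).1 (a1 hb).1).1, (a1 hb).1.ht_pos])⟩
    (mul_mem (inv_mem (X.U_mono (fun k hk => by rcases (c7 k).1 hk with rfl | rfl | rfl <;> simpa [a2]) c2)) hu)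
    fun k hk => by
      rcases (c7 k).1 hk with rfl | rfl | rfl
      exacts [co_zero.1 c5, co_zero.1 c6, co_zero.1 (h0 _ (S.pos_ρ.2 b3) _ c4 c6)]
  refine (K.mul_mem_cancel_left (inv_mem (Subgroup.mem_inf.1 c1).2)).1 (ih _ (e ▸ Set.ncard_lt_ncard
    ⟨Set.sdiff_subset, fun h => (h b1).2 (.inl rfl)⟩ T.toFinite) _ rfl (Set.sdiff_subset.trans a1) (fun k => ?_)
    (fun k hk j hj => ⟨a3 k hk.1 j hj, fun h => ?_⟩) _ c8 c4)
  · simp only [Set.mem_sdiff, a2, c7, S.ρ.injective.eq_iff]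
    refine and_congr_right fun _ => not_congr ?_
    rcases h3 r with h | h
    · rw [← h, S.ρ.injective.eq_iff, h]; tauto
    · rw [← h, S.ρ.injective.eq_iff, h, h]; tauto
  · have := b2 k hk.1
    rcases (c7 j).1 h with rfl | rfl | rfl <;> (try simp only [hρ] at hj) <;> omega

end Cfsg.Agent.SubF
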