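import Cfsg.Agent.SubF.BT

/-! Finite overgroups `M` of subfield subgroups: if the field automorphism `α` fixes `M ∩ U`, then it fixes the
`p`-local subgroups (`Loc.cent_fix`). -/

set_option autoImplicit false

namespace Cfsg.Agent.SubF

open Cfsg.Lie Cfsg.Agent.Chev Cfsg.Agent.Chev.Sys Cfsg.Agent.ChAut Cfsg.Agent.Mult

attribute [-simp] zsmul_eq_mul

variable {D : ChevalleyDatum} [Good D] {S : Sym D} {F : Type*} [Field F] {G : Type*} [Group G]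
  {X : Sys D F G} {Γ M : Subgroup G} {α : X.Aut (Sym.one D)}

theorem eq_of_le_of_ht {r k : Rt D} (h : ∀ i, rtv k i ≤ rtv r i) (h' : ht r ≤ ht k) : k = r :=
  rtv_injective (funext fun i => (Finset.sum_eq_sum_iff_of_le fun i _ => h i).1
    (le_antisymm (Finset.sum_le_sum fun i _ => h i) h') i (Finset.mem_univ i))

theorem stab_diff {T : Set (Rt D)} (h1 : ∀ r ∈ T, Pos r) (h2 : ∀ r ∈ T, ∀ k, (∀ i, rtv r i ≤ rtv k i) → k ∈ T)
    {r : Rt D} (h3 : ∀ k ∈ T, ht r ≤ ht k) : X.Stab (T \ {r}) :=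
  stab_of_upper (fun k hk => h1 k hk.1) fun k hk k' h => ⟨h2 k hk.1 k' h, fun e =>
    hk.2 (eq_of_le_of_ht (e ▸ h) (h3 k hk.1))⟩

theorem stab_sm (i : Sm D) : X.Stab {r | Pos r ∧ r ≠ sm i} :=
  stab_diff (T := {r | Pos r}) (fun _ h => h) (fun r hr k h j => (hr j).trans (h j)) fun k hk => by
    have := Pos.ht_pos hk
    rw [ht_sm]; omega

/-- The roots of the radical of height at least `m`. -/
def radL (J : Set (Sm D)) (m : ℤ) : Set (Rt D) := {k | (Pos k ∧ ¬ InJ J k) ∧ m ≤ ht k}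

theorem radL_up {J : Set (Sm D)} {m : ℤ} : ∀ r ∈ radL J m, ∀ k, (∀ i, rtv r i ≤ rtv k i) → k ∈ radL J m :=
  fun _ hr _ h => ⟨⟨fun j => (hr.1.1 j).trans (h j), fun e => hr.1.2 fun i hi =>
    le_antisymm (e i hi ▸ h i) (hr.1.1 i)⟩, hr.2.trans (Finset.sum_le_sum fun i _ => h i)⟩

theorem one_cj (w : WG D) : (Sym.one D).cj w = w := (Sym.one D).mem_W1.1 (by simp [Sym.one_W1])

theorem mM {K : Subgroup G} {y : G} (h : y ∈ M ⊓ K) : y ∈ M := h.1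

variable (X S α Γ M) in
/-- The local data. -/
structure Loc : Prop where
  fold : X.Fold S Γ
  le : M ≤ Γ
  map : ∀ y ∈ Γ, α.σ y ∈ Γ
  up : ∀ u ∈ X.UP, u ∈ M → α.σ u = u
  up' : ∀ u ∈ X.UP, u ∈ Γ → α.σ u = u → u ∈ M
  exN : ∀ i, ∃ n ∈ X.N, X.Mon n (S.w1 i) ∧ n ∈ M ⊓ α.fix
  ht : ∀ r, ht (S.ρ r) = ht r
  orb : ∀ i, (S.orb i)ᶜ.Nonempty
  top : ∀ r, Pos r → ∃ t ≠ 0, ∃ v ∈ X.U {k | k ≠ r ∧ S.ρ.SameCycle r k}, X.x r t * v ∈ M

theorem cyc_ind {P : Rt D → Prop} {r k : Rt D} (h0 : P r) (h1 : ∀ j, P j → P (S.ρ j)) (h : S.ρ.SameCycle r k) :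
    P k := by
  obtain ⟨n, -, rfl⟩ := h.exists_pow_eq'
  induction n with
  | zero => exact h0
  | succ n ih => rw [pow_succ']; exact h1 _ (ih ⟨n, by simp⟩)

namespace Loc

variable (L : Loc S X Γ M α) (c : X.Cover)
include L c

theorem top' {J : Set (Sm D)} (hJ : ∀ i, S.π i ∈ J ↔ i ∈ J) {r : Rt D} (hr : Pos r ∧ ¬ InJ J r) :
    ∃ z ∈ M, z ∈ X.U (radL J (Chev.ht r)) ∧ z ∉ X.U (radL J (Chev.ht r) \ {r}) := by
  obtain ⟨t, ht, v, hv, h⟩ := L.top r hr.1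
  have h1 : {k | k ≠ r ∧ S.ρ.SameCycle r k} ⊆ radL J (Chev.ht r) \ {r} := fun k hk =>
    ⟨cyc_ind (P := (· ∈ radL J (Chev.ht r))) ⟨hr, le_rfl⟩
      (fun j hj => ⟨⟨S.pos_ρ.2 hj.1.1, (S.inJ_ρ hJ).not.2 hj.1.2⟩, (L.ht j).symm ▸ hj.2⟩) hk.2, hk.1⟩
  exact ⟨_, h, mul_mem (X.x_mem_U (show r ∈ radL J _ from ⟨hr, le_rfl⟩) t) (X.U_mono (h1.trans Set.sdiff_subset) hv),
    c.x_mul_not_mem (stab_diff (X := X) (fun _ h => h.1.1) radL_up fun _ h => h.2).nilp h1 hr.1 (by simp) ht hv⟩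

theorem top_sm (i : Sm D) : ∃ u ∈ X.UP, u ∈ M ∧ u ∉ X.U {r | Pos r ∧ r ≠ sm i} := by
  obtain ⟨z, h1, h2, h3⟩ := L.top' c (J := ∅) (by simp) ⟨pos_sm i, by simp [inJ_sm]⟩
  exact ⟨z, X.U_mono (fun _ h => h.1.1) h2, h1, fun e => h3 (X.U_mono (fun k hk => And.intro ⟨⟨hk.1, fun e =>
    rtv_ne_zero k (funext fun i => e i (Set.notMem_empty i))⟩, by rw [ht_sm]; exact hk.1.ht_pos⟩ hk.2) e)⟩

variable [Conn D]

theorem fold0 : X.Fold S (M ⊓ α.fix) where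
  le := inf_le_left.trans (L.le.trans L.fold.le)
  stable u hu n hn w hw u' hu' h := by
    obtain ⟨a1, a2, a3⟩ := L.fold.stable u hu n hn w hw u' hu' (L.le h.1)
    obtain ⟨-, a4, a5⟩ := α.stable c u hu n hn w hw u' hu' h.2
    exact ⟨a1, ⟨L.up' u hu a2 a4, a4⟩, L.up' u' (X.UI_le _ hu') a3 a5, a5⟩
  exN := L.exN
  top i := by
    obtain ⟨u, h1, h2, h3⟩ := L.top_sm c i
    exact ⟨u, h1, ⟨h2, L.up u h1 h2⟩, h3⟩

theorem mem_B_of_norm {y : G} (hy : y ∈ X.U Set.univ) (h : ∀ u ∈ X.UP, u ∈ M → y * u * y⁻¹ ∈ X.UP) : y ∈ X.B := by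
  obtain ⟨w, hw⟩ := exists_cell hy
  obtain rfl : w = 1 := eq_one_of_pos fun i => by_contra fun e => by
    obtain ⟨u, h1, h2, h3⟩ := L.top_sm c i
    obtain ⟨r, a1, a2, a3⟩ := c.conj_root hw.inv (stab_lvl 1) (stab_lvl 1) (stab_sm i) (y := y * u * y⁻¹)
      (by rw [nilp_Pos.lvl_one]; exact h u h1 h2) (by simpa [nilp_Pos.lvl_one, mul_assoc]) (by simpa [mul_assoc])
    rw [← not_not.1 fun e => a3 ⟨a2.1, e⟩, smul_inv_smul] at e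
    exact e a1.1
  exact c.mem_B_of_cell hw

theorem ht_le {J : Set (Sm D)} (hJ : ∀ i, S.π i ∈ J ↔ i ∈ J) {y : G} {w : WG D} (hw : X.Cell y w)
    (h : ∀ z ∈ X.U {r | Pos r ∧ ¬ InJ J r}, z ∈ M → y * z * y⁻¹ = z) {r : Rt D} (hr : Pos r ∧ ¬ InJ J r) :
    Chev.ht r ≤ Chev.ht (w⁻¹ • r) := by
  obtain ⟨z, h1, h2, h3⟩ := L.top' c hJ hr
  have e := h z (X.U_mono (fun _ h => h.1) h2) h1
  have s : X.Stab (radL J (Chev.ht r)) := stab_of_upper (fun _ h => h.1.1) radL_up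
  obtain ⟨k, a1, a2, a3⟩ := c.conj_root hw s s (stab_diff (fun _ h => h.1.1) radL_up fun _ h => h.2) h2
    (e.symm ▸ h2) (e.symm ▸ h3)
  rw [← not_not.1 fun e => a3 ⟨a2, e⟩, inv_smul_smul, not_not.1 fun e => a3 ⟨a2, e⟩]
  exact a1.2

theorem mem_B_of_cent {J : Set (Sm D)} (h0 : Jᶜ.Nonempty) (hJ : ∀ i, S.π i ∈ J ↔ i ∈ J) {y : G} (hy : y ∈ X.P J)
    (h : ∀ z ∈ X.U {r | Pos r ∧ ¬ InJ J r}, z ∈ M → y * z * y⁻¹ = z) : y ∈ X.B := by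
  obtain ⟨w, hw, hc⟩ := exists_cell_of_mem_P hy
  obtain rfl : w = 1 := eq_one_of_pos fun j => pos_iff_ht.2 (by
    have := eq_zero_of_rad h0 ((htF D).comp (wl w) - htF D).toAddMonoidHom (fun r hr => by
      have a1 := L.ht_le c hJ hc h (r := w • r) ⟨pos_smul_of_not_inJ hw hr.1 hr.2, (inJ_smul hw).not.2 hr.2⟩
      have a2 := L.ht_le c hJ hc.inv (fun z h1 h2 => by
        conv_lhs => rw [← h z h1 h2]
        group) hr
      simp only [inv_smul_smul, inv_inv] at a1 a2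
      simp [← rtv_smul, htF_rtv]; omega) j
    simp only [LinearMap.toAddMonoidHom_coe, LinearMap.sub_apply, LinearMap.comp_apply, ← rtv_smul, htF_rtv,
      ht_sm] at this
    omega)
  exact c.mem_B_of_cell hc

omit L in
theorem σ_mem_P {J : Set (Sm D)} {y : G} (hy : y ∈ X.P J) : α.σ y ∈ X.P J := by
  obtain ⟨w, hw, hc⟩ := exists_cell_of_mem_P hy
  exact (c.mem_P_iff (α.cell_σ c hc)).2 ((one_cj w).symm ▸ hw)

omit c [Conn D] in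
theorem cent {K : Subgroup G} (hK : K ≤ X.UP) {g : G} (hg : g ∈ M) (hn : g ∈ Subgroup.normalizer (K : Set G)) :
    ∀ z ∈ K, z ∈ M → α.σ g * g⁻¹ * z * (α.σ g * g⁻¹)⁻¹ = z := fun z h1 h2 => by
  have := L.up _ (hK (conj_mem_of_norm' hn h1)) (mul_mem (mul_mem (inv_mem hg) h2) hg)
  rw [map_mul, map_mul, map_inv, L.up z (hK h1) h2] at this
  calc _ = α.σ g * (g⁻¹ * z * g) * (α.σ g)⁻¹ := by group
    _ = z := by rw [← this]; group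

theorem split {J : Set (Sm D)} (h0 : Jᶜ.Nonempty) (hJ : ∀ i, S.π i ∈ J ↔ i ∈ J) {g : G} (hg : g ∈ M)
    (hP : g ∈ X.P J) : ∃ φ ∈ M ⊓ α.fix, g * φ⁻¹ ∈ X.B := by
  have h1 := L.mem_B_of_cent c h0 hJ (mul_mem (σ_mem_P c hP) (inv_mem hP))
    (L.cent (X.U_mono fun _ h => h.1) hg (X.P_le_normalizer J hP))
  obtain ⟨w, hw, u, n, u', a1, -, a3, -, a5, a6, a7, a8, rfl⟩ := canon L.fold c (L.le hg)
  obtain ⟨n', b1, b2, b3⟩ := (L.fold0 c).exists_N hw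
  have b4 := mul_mem (X.UP_le_B a1) (X.H_le_B (c.mul_inv_mem_H a3 b1 a5 b2))
  have := (c.canon_unique b2 (α.σ_mem_B b4) (mul_mem h1 b4) (α.σ_mem_U (fun _ h => h) a6) a6 (by
    simp [mul_assoc, Aut.mem_fix.1 b3.2])).2
  exact ⟨n' * u', mul_mem b3 ⟨L.up' _ a7 a8 this, this⟩, by simpa [mul_assoc] using b4⟩

variable (m : X.Mult) (hπ : Function.Injective c.π)
include m hπ

theorem B_fix {g : G} (hg : g ∈ M) (hB : g ∈ X.B) : α.σ g = g := by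
  obtain ⟨n, h1, h2, h3⟩ := S.W1_induction (P := fun w => ∃ n ∈ X.N, X.Mon n w ∧ ∀ b ∈ M ⊓ X.B, ∃ b' ∈ M ⊓ X.B,
      n * (α.σ b * b⁻¹) * n⁻¹ = α.σ b' * b'⁻¹) ⟨1, one_mem _, X.mon_one, fun b hb => ⟨b, hb, by simp⟩⟩
    (fun w _ i _ ⟨n, h1, h2, h3⟩ => by
      obtain ⟨n', a1, a2, a3⟩ := L.exN i
      refine ⟨_, mul_mem h1 a1, h2.mul a2, fun b hb => ?_⟩
      have a4 := (mem_P_of_mon c a1 a2).1
      have a5 := mul_mem (mul_mem (mM a3) (mM hb)) (inv_mem (mM a3))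
      obtain ⟨φ, a6, a7⟩ := L.split c (L.orb i) (S.π_mem_orb i) a5
        (mul_mem (mul_mem a4 (X.B_le_P _ hb.2)) (inv_mem a4))
      obtain ⟨b', a8, a9⟩ := h3 _ (Subgroup.mem_inf.2 ⟨mul_mem a5 (inv_mem (mM a6)), a7⟩)
      refine ⟨b', a8, a9 ▸ ?_⟩
      simp only [map_mul, map_inv, Aut.mem_fix.1 a3.2, Aut.mem_fix.1 a6.2]
      group) (S.w0_mem_W1 (J := Set.univ) (by simp))
  obtain ⟨b, a1, a2⟩ := h3 g ⟨hg, hB⟩
  obtain ⟨a, ha⟩ := m.exists_tor (c.mem_H_of_conj h2 h1 (mul_mem (α.σ_mem_B hB) (inv_mem hB))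
    (a2 ▸ mul_mem (α.σ_mem_B a1.2) (inv_mem (Subgroup.mem_inf.1 a1).2)))
  refine mul_inv_eq_one.1 (hπ ?_)
  rw [map_one, ha, m.π_tor_eq_one c]
  refine fun i => by_contra fun e => ?_
  obtain ⟨u, b1, b2, b3⟩ := L.top_sm c i
  exact b3 (X.U_mono (fun r hr => And.intro hr.1 fun e' : r = sm i => e (e' ▸ hr.2)) (c.mem_U_of_conj m nilp_Pos b1
    (ha ▸ L.cent le_rfl hg (X.B_le_normalizer_UP hB) u b1 b2)))

theorem P_fix {J : Set (Sm D)} (h0 : Jᶜ.Nonempty) (hJ : ∀ i, S.π i ∈ J ↔ i ∈ J) {g : G} (hg : g ∈ M)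
    (hP : g ∈ X.P J) : α.σ g = g := by
  obtain ⟨φ, h1, h2⟩ := L.split c h0 hJ hg hP
  simpa [Aut.mem_fix.1 h1.2] using L.B_fix c m hπ (mul_mem hg (inv_mem (mM h1))) h2

omit m hπ in
theorem rational {J : Set (Sm D)} (hJ : ∀ i, S.π i ∈ J ↔ i ∈ J) {z : G} (hz : z ∈ Γ) (h : α.σ z * z⁻¹ ∈ X.P J) :
    ∃ z' ∈ M ⊓ α.fix, z * z'⁻¹ ∈ X.P J := by
  obtain ⟨w, hw, u, n, u', a1, -, a3, -, a5, -, a7, a8, rfl⟩ := canon L.fold c hz
  obtain ⟨k, b1, v, b2, b3⟩ := exists_min J w⁻¹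
  have b4 : k = w⁻¹ * v⁻¹ := by rw [b3, mul_inv_cancel_right]
  have b5 : k ∈ S.W1 := S.mem_W1.2 (b1.unique (S.cj_min hJ b1) (by
    rw [b4, map_mul, map_inv, S.mem_W1.1 hw]
    simpa [mul_assoc] using mul_mem b2 (S.cj_mem hJ (inv_mem b2)))).symm
  obtain ⟨n', c1, c2, c3⟩ := (L.fold0 c).exists_N (inv_mem b5)
  obtain ⟨w', -, u1, n1, u2, d1, -, d3, -, d5, d6, d7, d8, e⟩ := canon L.fold c (mul_mem (L.le c3.1) a8)
  obtain rfl := c.cell_unique ((c2.cell c1).mul_right (X.UP_le_B a7))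
    (e ▸ ((d5.cell d3).mul_left (X.UP_le_B d1)).mul_right (X.UP_le_B d7))
  have c4 : u * n * u' * (n' * u2)⁻¹ ∈ X.P J := by
    have := mul_mem (mul_mem (X.B_le_P J (X.UP_le_B a1)) ((c.mem_P_iff ((a5.mul c2.inv).cell
      (mul_mem a3 (inv_mem c1)))).2 (by simpa [b4] using b2))) (X.B_le_P J (mul_mem (X.UP_le_B d1)
        (X.H_le_B (c.mul_inv_mem_H d3 c1 d5 c2))))
    convert this using 1
    rw [eq_inv_mul_of_mul_eq e]; group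
  have c5 : n' * (α.σ u2 * u2⁻¹) * n'⁻¹ ∈ X.P J := by
    have := mul_mem (mul_mem (inv_mem (σ_mem_P (α := α) c c4)) h) c4
    simpa [Aut.mem_fix.1 c3.2, mul_assoc] using this
  have c6 := c2.conj_mem_U (T := {r | ¬ Pos r ∧ Pos (k • r)}) (fun r hr => ⟨hr.2, by simpa using hr.1⟩)
    (mul_mem (α.σ_mem_U (fun _ h => h) d6) (inv_mem d6))
  have c7 := X.U_mono (T := ∅) (fun r hr => not_pos_ng_iff.2 hr.1.2 (smul_ng k r ▸
    pos_smul_of_inJ b1 (pos_ng_iff.2 hr.1.1) (inJ_ng.2 hr.2.2))) ((c.U_inf_U (S := {r | ¬ Pos r ∧ Pos (k • r)})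
      ⟨fun r hr => nilp_Neg.pos r hr.1, fun a ha b hb j hj => ⟨hj.not_pos ha.1 hb.1, (hj.smul k).pos ha.2 hb.2⟩⟩
      (nilp_negJ J)).le ⟨c6, UN_inf_P c J (X.U_mono (fun _ h => h.1) c6) c5⟩)
  have c8 : α.σ u2 = u2 := by simpa [mul_inv_eq_one, mul_inv_eq_iff_eq_mul] using c7
  exact ⟨_, mul_mem c3 ⟨L.up' _ d7 d8 c8, c8⟩, c4⟩

variable (p : ℕ) [Fact p.Prime] [CharP F p] [Finite M]

/-- Centralizers of `p`-elements. -/
theorem cent_fix {v g : G} (hv : v ∈ M ⊓ α.fix) (h1 : v ≠ 1) {k : ℕ} (hk : v ^ p ^ k = 1) (hg : g ∈ M)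
    (h : Commute g v) : α.σ g = g := by
  have : Finite ↥(M ⊓ α.fix) := Finite.of_injective _ (Subgroup.inclusion_injective inf_le_left)
  obtain ⟨z, a1, a2⟩ := exists_conj_UP c p m hπ (L.fold0 c) (P := Subgroup.zpowers v) (by simpa using hv) (by
    rintro ⟨_, n, rfl⟩
    exact ⟨k, Subtype.ext (by
      change (v ^ n) ^ p ^ k = 1
      rw [← zpow_natCast, ← zpow_mul, mul_comm, zpow_mul, zpow_natCast, hk, one_zpow])⟩)
  have a3 : ∀ y ∈ Subgroup.zpowers (z * v * z⁻¹), α.σ y = y ∧ Commute (z * g * z⁻¹) y := by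
    rintro _ ⟨n, rfl⟩
    exact ⟨(zpow_mem (mul_mem (mul_mem a1 hv) (inv_mem a1)) n).2, .zpow_right (h.map (MulAut.conj z)) n⟩
  obtain ⟨y, b1, J, b2, b3, T, b4, b5⟩ := bt L.fold c (V := Subgroup.zpowers (z * v * z⁻¹))
    (by simpa using a2 v (by simp)) (by simpa [mul_inv_eq_one] using h1)
  obtain ⟨y', c1, c2⟩ := L.rational c b3 b1 (b5 _ (L.map y b1) fun u hu => by
    simpa [(a3 u hu).1] using α.σ_mem_U (T' := T) (fun _ h => h) (b4 u hu))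
  have c3 := mul_mem (mul_mem (mM a1) hg) (inv_mem (mM a1))
  have c4 := b5 _ (mul_mem b1 (L.le c3)) fun u hu => by
    convert b4 u hu using 1
    rw [mul_assoc y, (a3 u hu).2.eq]; group
  have c5 := L.P_fix c m hπ b2 b3 (mul_mem (mul_mem (mM c1) c3) (inv_mem (mM c1))) (by
    simpa [mul_assoc] using mul_mem (mul_mem (inv_mem c2) c4) c2)
  simpa [Aut.mem_fix.1 c1.2, Aut.mem_fix.1 a1.2] using c5

theorem fix_of_conj {v g : G} (h1 : v ≠ 1) {k : ℕ} (hk : v ^ p ^ k = 1) (hc : ∀ u ∈ X.UP, Commute u v)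
    (hg : g ∈ M) (h : g * v * g⁻¹ ∈ M ⊓ α.fix) : α.σ g = g := by
  have : Finite ↥(M ⊓ α.fix) := Finite.of_injective _ (Subgroup.inclusion_injective inf_le_left)
  obtain ⟨z, a1, a2⟩ := exists_conj_UP c p m hπ (L.fold0 c) (P := (X.UP ⊓ M).map (MulAut.conj g).toMonoidHom) (by
    rintro _ ⟨u, hu, rfl⟩
    have := mul_mem (mul_mem hg hu.2) (inv_mem hg)
    exact ⟨this, L.cent_fix c m hπ p h (by simpa [mul_inv_eq_one] using h1) (k := k) (by simp [hk]) this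
      ((hc u hu.1).map (MulAut.conj g))⟩) ((isPGroup_U c p nilp_Pos).to_inf_left.map _)
  have := mul_mem (mM a1) hg
  simpa [Aut.mem_fix.1 a1.2] using L.B_fix c m hπ this (L.mem_B_of_norm c (L.fold.le (L.le this)) fun u h1 h2 => by
    simpa [mul_assoc] using a2 _ ⟨u, ⟨h1, h2⟩, rfl⟩)

end Loc

end Cfsg.Agent.SubF
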